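import Groth.Agent.CohTwo.IdealMulPow
import Mathlib.RingTheory.Filtration
import Mathlib.Algebra.Homology.ShortComplex.HomologicalComplex

/-!
Artin–Rees for complexes of coherent modules: the maps between the Deligne system `H^p(I^n F)` and
`I^n H^p(F)`, at the level of cycles.
-/

universe u

open CategoryTheory CategoryTheory.Limits AlgebraicGeometry TopologicalSpace Opposite

namespace Groth.Dual3Deligne

open Groth.CohTwo

variable {X : Scheme.{u}}

/-- Factoring through a monomorphism can be checked on the members of an affine cover. -/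
theorem exists_lift_of_affine_cover {A B C : X.Modules} [A.IsQuasicoherent] (α : A ⟶ C)
    (β : B ⟶ C) [Mono β] {ι : Type*} (V : ι → X.Opens) (hV : ∀ i, IsAffineOpen (V i))
    (hcov : ∀ x, ∃ i, x ∈ V i) (h : ∀ i a, α.app (V i) a ∈ Set.range (β.app (V i))) :
    ∃ γ : A ⟶ B, γ ≫ β = α := by
  refine exists_lift_of_local α β fun W a x hx => ?_
  obtain ⟨i, hi⟩ := hcov x
  obtain ⟨f, hxf, hfW⟩ := Groth.QCohMod.exists_basicOpen_mem (hV i) hi hx
  obtain ⟨n, t, ht⟩ := Groth.QCohMod.exists_pow_smul_eq_res A (hV i) f (res A hfW a)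
  obtain ⟨b, hb⟩ := h i t
  let c := resR X (X.basicOpen_le f) f
  have hu : IsUnit (c ^ n) := (X.toRingedSpace.isUnit_res_basicOpen f).pow n
  obtain ⟨v, hv⟩ := hu
  have ht' : res A (X.basicOpen_le f) t = c ^ n • res A hfW a := ht
  refine ⟨X.basicOpen f, hfW, (↑v⁻¹ : Γ(X, X.basicOpen f)) • res B (X.basicOpen_le f) b, hxf, ?_⟩
  rw [Scheme.Modules.Hom.app_smul, app_res, hb, ← app_res, ht', α.app_smul, ← mul_smul, ← hv,
    Units.inv_mul, one_smul, app_res]

/-- A finite affine cover of a quasi-compact scheme. -/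
theorem exists_affine_finset_cover (X : Scheme.{u}) [CompactSpace X] :
    ∃ T : Finset X.affineOpens, ∀ x : X, ∃ U : T, x ∈ U.1.1 := by
  obtain ⟨T, hT⟩ := isCompact_univ.elim_finite_subcover
    (fun U : X.affineOpens => (U.1 : Set X)) (fun U => U.1.2) fun x _ => by
      obtain ⟨U, hU, hxU⟩ := Groth.QCohMod.exists_affine_mem x
      exact Set.mem_iUnion.2 ⟨⟨U, hU⟩, hxU⟩
  refine ⟨T, fun x => ?_⟩
  obtain ⟨U, hU, hxU⟩ := Set.mem_iUnion₂.1 (hT (Set.mem_univ x))
  exact ⟨⟨U, hU⟩, hxU⟩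

open Groth.QCohMod (appₗ appₗ_apply)

variable (F : CochainComplex X.Modules ℤ) (p : ℤ)

lemma cyclesFork_exact :
    (ShortComplex.mk (F.iCycles p) (F.d p (p + 1)) (F.iCycles_d p (p + 1))).Exact :=
  ShortComplex.exact_of_f_is_kernel _ (F.cyclesIsKernel p (p + 1) (by simp))

lemma toCycles_exact :
    (ShortComplex.mk (F.toCycles (p - 1) p) (F.homologyπ p)
      (F.toCycles_comp_homologyπ (p - 1) p)).Exact :=
  ShortComplex.exact_of_g_is_cokernel _ (F.homologyIsCokernel (p - 1) p (by simp))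

variable [hF : ∀ q, (F.X q).IsQuasicoherent]

lemma isQCoh_cycles : (F.cycles p).IsQuasicoherent := by
  haveI : (ShortComplex.mk (F.iCycles p) (F.d p (p + 1)) (F.iCycles_d p (p + 1))).X₂.IsQuasicoherent :=
    hF p
  haveI : (ShortComplex.mk (F.iCycles p) (F.d p (p + 1)) (F.iCycles_d p (p + 1))).X₃.IsQuasicoherent :=
    hF (p + 1)
  exact Groth.QCohMod.isQCoh_of_mono_exact (cyclesFork_exact F p)

lemma isQCoh_homology : (F.homology p).IsQuasicoherent := by
  haveI : (ShortComplex.mk (F.toCycles (p - 1) p) (F.homologyπ p)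
      (F.toCycles_comp_homologyπ (p - 1) p)).X₁.IsQuasicoherent := hF (p - 1)
  haveI : (ShortComplex.mk (F.toCycles (p - 1) p) (F.homologyπ p)
      (F.toCycles_comp_homologyπ (p - 1) p)).X₂.IsQuasicoherent := isQCoh_cycles F p
  exact Groth.QCohMod.isQCoh_of_epi_exact (toCycles_exact F p)

variable {U : X.Opens}

omit hF in
/-- Sections of the cycles over any open are the kernel of the differential. -/
lemma exists_iCycles_app_eq (x : Γ(F.X p, U)) (hx : (F.d p (p + 1)).app U x = 0) :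
    ∃ z : Γ(F.cycles p, U), (F.iCycles p).app U z = x :=
  Groth.QCohMod.exists_app_eq_of_mono_exact (cyclesFork_exact F p) U x hx

/-- Over an affine open a cycle of class zero is a boundary. -/
lemma exists_toCycles_app_eq (hU : IsAffineOpen U) (z : Γ(F.cycles p, U))
    (hz : (F.homologyπ p).app U z = 0) :
    ∃ w : Γ(F.X (p - 1), U), (F.toCycles (p - 1) p).app U w = z := by
  haveI : (ShortComplex.mk (F.toCycles (p - 1) p) (F.homologyπ p)
      (F.toCycles_comp_homologyπ (p - 1) p)).X₁.IsQuasicoherent := hF (p - 1)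
  haveI : (ShortComplex.mk (F.toCycles (p - 1) p) (F.homologyπ p)
      (F.toCycles_comp_homologyπ (p - 1) p)).X₂.IsQuasicoherent := isQCoh_cycles F p
  haveI : (ShortComplex.mk (F.toCycles (p - 1) p) (F.homologyπ p)
      (F.toCycles_comp_homologyπ (p - 1) p)).X₃.IsQuasicoherent := isQCoh_homology F p
  exact Groth.QCohMod.exists_app_eq_of_exact (toCycles_exact F p) hU z hz

lemma surjective_homologyπ_app (hU : IsAffineOpen U) :
    Function.Surjective ((F.homologyπ p).app U) := by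
  haveI := isQCoh_cycles F p
  haveI := isQCoh_homology F p
  exact Groth.QCohMod.app_surjective_of_epi (F.homologyπ p) hU

omit hF in
/-- The image of `J^n • ⊤` lies in `J^n • ⊤`. -/
lemma app_mem_smul_top {M N : X.Modules} (φ : M ⟶ N) (J : Ideal Γ(X, U)) (x : Γ(M, U))
    (hx : x ∈ J • (⊤ : Submodule Γ(X, U) Γ(M, U))) :
    φ.app U x ∈ J • (⊤ : Submodule Γ(X, U) Γ(N, U)) := by
  rw [← appₗ_apply]
  have h := Submodule.mem_map_of_mem (f := appₗ φ U) hx
  rw [Submodule.map_smul''] at h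
  exact Submodule.smul_mono le_rfl le_top h

variable (I : X.IdealSheafData)

lemma isQCoh_deligne (n : ℕ) (q : ℤ) : (((Dual3.deligne I n).obj F).X q).IsQuasicoherent :=
  isQCoh_idealMul (I ^ n) (F.X q)

/-- `I^n Z ⟶ Z(I^n F)`. -/
noncomputable def toDelCycles (n : ℕ) :
    (Dual3.idealMul (I ^ n)).obj (F.cycles p) ⟶ ((Dual3.deligne I n).obj F).cycles p :=
  ((Dual3.deligne I n).obj F).liftCycles ((Dual3.idealMul (I ^ n)).map (F.iCycles p)) (p + 1)
    (by simp) (by
      change (Dual3.idealMul (I ^ n)).map (F.iCycles p) ≫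
        (Dual3.idealMul (I ^ n)).map (F.d p (p + 1)) = 0
      rw [← Functor.map_comp, F.iCycles_d, Functor.map_zero])

omit hF in
lemma toDelCycles_i (n : ℕ) :
    toDelCycles F p I n ≫ ((Dual3.deligne I n).obj F).iCycles p =
      (Dual3.idealMul (I ^ n)).map (F.iCycles p) :=
  HomologicalComplex.liftCycles_i _ _ _ _ _

omit hF in
lemma toDelCycles_cyclesMap (n : ℕ) :
    toDelCycles F p I n ≫ HomologicalComplex.cyclesMap (Dual3.deligneι I n F) p =
      Dual3.idealMulι (I ^ n) (F.cycles p) := by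
  rw [← cancel_mono (F.iCycles p), Category.assoc, HomologicalComplex.cyclesMap_i, ← Category.assoc,
    toDelCycles_i]
  exact Dual3.idealMul_map_ι (I ^ n) (F.iCycles p)

omit hF in
/-- The canonical map `Z(I^n F) ⟶ Z(F)` is a monomorphism. -/
lemma mono_cyclesMap_deligneι (n : ℕ) :
    Mono (HomologicalComplex.cyclesMap (Dual3.deligneι I n F) p) := by
  haveI : Mono ((Dual3.deligneι I n F).f p) := Dual3.mono_idealMulι _ _
  haveI : Mono (((Dual3.deligne I n).obj F).iCycles p ≫ (Dual3.deligneι I n F).f p) :=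
    mono_comp _ _
  exact mono_of_mono_fac (HomologicalComplex.cyclesMap_i (Dual3.deligneι I n F) p)

variable [IsNoetherian X]

/-- Artin–Rees, uniformly on a finite affine cover, for the kernel and the image of a map. -/
theorem exists_artinRees {M N : X.Modules} (φ : M ⟶ N) (T : Finset X.affineOpens)
    (hfin : ∀ U : X.Opens, IsAffineOpen U → Module.Finite Γ(X, U) Γ(M, U))
    (hfinN : ∀ U : X.Opens, IsAffineOpen U → Module.Finite Γ(X, U) Γ(N, U)) :
    ∃ c : ℕ, ∀ U ∈ T, ∀ n ≥ c,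
      ((I.ideal U ^ n • ⊤ : Submodule Γ(X, U.1) Γ(M, U.1)) ⊓ LinearMap.ker (appₗ φ U.1) ≤
        I.ideal U ^ (n - c) • LinearMap.ker (appₗ φ U.1)) ∧
      ((I.ideal U ^ n • ⊤ : Submodule Γ(X, U.1) Γ(N, U.1)) ⊓ LinearMap.range (appₗ φ U.1) ≤
        I.ideal U ^ (n - c) • LinearMap.range (appₗ φ U.1)) := by
  have key : ∀ U : X.affineOpens, ∃ c : ℕ, ∀ n ≥ c,
      ((I.ideal U ^ n • ⊤ : Submodule Γ(X, U.1) Γ(M, U.1)) ⊓ LinearMap.ker (appₗ φ U.1) ≤
        I.ideal U ^ (n - c) • LinearMap.ker (appₗ φ U.1)) ∧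
      ((I.ideal U ^ n • ⊤ : Submodule Γ(X, U.1) Γ(N, U.1)) ⊓ LinearMap.range (appₗ φ U.1) ≤
        I.ideal U ^ (n - c) • LinearMap.range (appₗ φ U.1)) := by
    intro U
    haveI : IsNoetherianRing Γ(X, U.1) := IsLocallyNoetherian.component_noetherian U
    haveI := hfin U.1 U.2
    haveI := hfinN U.1 U.2
    obtain ⟨k, hk⟩ := (I.ideal U).exists_pow_inf_eq_pow_smul (LinearMap.ker (appₗ φ U.1))
    obtain ⟨l, hl⟩ := (I.ideal U).exists_pow_inf_eq_pow_smul (LinearMap.range (appₗ φ U.1))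
    refine ⟨max k l, fun n hn => ⟨?_, ?_⟩⟩
    · rw [hk n (le_trans (le_max_left k l) hn)]
      exact Submodule.smul_mono (Ideal.pow_le_pow_right (by omega)) inf_le_right
    · rw [hl n (le_trans (le_max_right k l) hn)]
      exact Submodule.smul_mono (Ideal.pow_le_pow_right (by omega)) inf_le_right
  choose c hc using key
  refine ⟨T.sup c, fun U hU n hn => ?_⟩
  have hle : c U ≤ T.sup c := Finset.le_sup hU
  obtain ⟨h1, h2⟩ := hc U n (hle.trans hn)
  exact ⟨h1.trans (Submodule.smul_mono_left (Ideal.pow_le_pow_right (by omega))),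
    h2.trans (Submodule.smul_mono_left (Ideal.pow_le_pow_right (by omega)))⟩

end Groth.Dual3Deligne
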