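import Groth.Agent.Dual3Deligne.Basic

/-!
The pro-isomorphism between `H^p(I^n F)` and `I^n H^p(F)`.
-/

universe u

open CategoryTheory CategoryTheory.Limits AlgebraicGeometry TopologicalSpace Opposite

namespace Groth.Dual3Deligne

open Groth.CohTwo

open Groth.QCohMod (appₗ appₗ_apply)

variable {X : Scheme.{u}} [IsNoetherian X] (I : X.IdealSheafData) (F : CochainComplex X.Modules ℤ)
  (p : ℤ) [∀ q, (F.X q).IsQuasicoherent]

theorem exists_cycles_data
    (hfin : ∀ (q : ℤ) (U : X.Opens), IsAffineOpen U → Module.Finite Γ(X, U) Γ(F.X q, U)) :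
    ∃ c : ℕ, 0 < c ∧
      (∀ n ≥ c, ∃ b : ((Dual3.deligne I n).obj F).cycles p ⟶
          (Dual3.idealMul (I ^ (n - c))).obj (F.cycles p),
        b ≫ Dual3.idealMulι (I ^ (n - c)) (F.cycles p) =
          HomologicalComplex.cyclesMap (Dual3.deligneι I n F) p) ∧
      (∀ n ≥ c, ∀ i : (Dual3.idealMul (I ^ n)).obj (F.cycles p) ⟶
          (Dual3.idealMul (I ^ (n - c))).obj (F.cycles p),
        i ≫ Dual3.idealMulι (I ^ (n - c)) (F.cycles p) = Dual3.idealMulι (I ^ n) (F.cycles p) →
        kernel.ι ((Dual3.idealMul (I ^ n)).map (F.homologyπ p)) ≫ i ≫ toDelCycles F p I (n - c) ≫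
          ((Dual3.deligne I (n - c)).obj F).homologyπ p = 0) := by
  obtain ⟨T, hT⟩ := exists_affine_finset_cover X
  obtain ⟨c₁, hc₁⟩ := exists_artinRees I (F.d p (p + 1)) T (hfin p) (hfin (p + 1))
  obtain ⟨c₂, hc₂⟩ := exists_artinRees I (F.d (p - 1) p) T (hfin (p - 1)) (hfin p)
  haveI hZ := isQCoh_cycles F p
  haveI hH := isQCoh_homology F p
  refine ⟨c₁ + c₂ + 1, by omega, fun n hn => ?_, fun n hn i hi => ?_⟩
  · haveI : ∀ q, (((Dual3.deligne I n).obj F).X q).IsQuasicoherent := isQCoh_deligne F I n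
    haveI := isQCoh_cycles ((Dual3.deligne I n).obj F) p
    refine exists_lift_of_affine_cover _ _ (fun U : T => U.1.1) (fun U => U.1.2) hT fun U a => ?_
    rw [range_idealMulι_pow I _ _ U.1.2]
    let x : Γ((Dual3.idealMul (I ^ n)).obj (F.X p), U.1.1) :=
      (((Dual3.deligne I n).obj F).iCycles p).app U.1.1 a
    let y : Γ(F.X p, U.1.1) := (Dual3.idealMulι (I ^ n) (F.X p)).app U.1.1 x
    let z : Γ(F.cycles p, U.1.1) :=
      (HomologicalComplex.cyclesMap (Dual3.deligneι I n F) p).app U.1.1 a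
    have hy : (F.iCycles p).app U.1.1 z = y :=
      congr(($(HomologicalComplex.cyclesMap_i (Dual3.deligneι I n F) p)).app U.1.1 a)
    have hker : y ∈ LinearMap.ker (appₗ (F.d p (p + 1)) U.1.1) := by
      rw [LinearMap.mem_ker, appₗ_apply, ← hy]
      exact congr(($(F.iCycles_d p (p + 1))).app U.1.1 z)
    have hpow : y ∈ I.ideal U.1 ^ n • (⊤ : Submodule Γ(X, U.1.1) Γ(F.X p, U.1.1)) :=
      (range_idealMulι_pow I n (F.X p) U.1.2 y).1 ⟨x, rfl⟩
    have hmem := (hc₁ U.1 U.2 n (by omega)).1 ⟨hpow, hker⟩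
    have hker' : LinearMap.ker (appₗ (F.d p (p + 1)) U.1.1) ≤
        (⊤ : Submodule Γ(X, U.1.1) Γ(F.cycles p, U.1.1)).map (appₗ (F.iCycles p) U.1.1) := by
      intro w hw
      obtain ⟨v, hv⟩ := exists_iCycles_app_eq F p w hw
      exact ⟨v, Submodule.mem_top, hv⟩
    have h2 := (Submodule.smul_mono le_rfl hker') hmem
    rw [← Submodule.map_smul''] at h2
    obtain ⟨v, hv, hve⟩ := h2
    have hvz : v = z := Groth.QCohMod.app_injective_of_mono (F.iCycles p) _ (hve.trans hy.symm)
    subst hvz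
    exact Submodule.smul_mono_left (Ideal.pow_le_pow_right (by omega)) hv
  · haveI := isQCoh_idealMul (I ^ n) (F.cycles p)
    haveI := isQCoh_idealMul (I ^ n) (F.homology p)
    haveI := Groth.QCohMod.isQCoh_kernel ((Dual3.idealMul (I ^ n)).map (F.homologyπ p))
    refine eq_zero_of_affine_cover _ (fun U : T => U.1.1) (fun U => U.1.2) hT fun U s => ?_
    let m := n - (c₁ + c₂ + 1)
    let G := (Dual3.deligne I m).obj F
    let k : Γ((Dual3.idealMul (I ^ n)).obj (F.cycles p), U.1.1) :=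
      (kernel.ι ((Dual3.idealMul (I ^ n)).map (F.homologyπ p))).app U.1.1 s
    let z : Γ(F.cycles p, U.1.1) := (Dual3.idealMulι (I ^ n) (F.cycles p)).app U.1.1 k
    let y : Γ(F.X p, U.1.1) := (F.iCycles p).app U.1.1 z
    have hz : (F.homologyπ p).app U.1.1 z = 0 := by
      have hk : ((Dual3.idealMul (I ^ n)).map (F.homologyπ p)).app U.1.1 k = 0 :=
        congr(($(kernel.condition ((Dual3.idealMul (I ^ n)).map (F.homologyπ p)))).app U.1.1 s)
      have h2 := congr(($(Dual3.idealMul_map_ι (I ^ n) (F.homologyπ p))).app U.1.1 k)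
      refine h2.symm.trans ?_
      exact (congrArg ((Dual3.idealMulι (I ^ n) (F.homology p)).app U.1.1) hk).trans
        (map_zero ((Dual3.idealMulι (I ^ n) (F.homology p)).app U.1.1).hom)
    obtain ⟨w, hw⟩ := exists_toCycles_app_eq F p U.1.2 z hz
    have hy : (F.d (p - 1) p).app U.1.1 w = y := by
      have := congr(($(F.toCycles_i (p - 1) p)).app U.1.1 w)
      exact this.symm.trans (congrArg _ hw)
    have hpow : y ∈ I.ideal U.1 ^ n • (⊤ : Submodule Γ(X, U.1.1) Γ(F.X p, U.1.1)) :=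
      app_mem_smul_top (F.iCycles p) _ z
        ((range_idealMulι_pow I n (F.cycles p) U.1.2 z).1 ⟨k, rfl⟩)
    have hmem := (hc₂ U.1 U.2 n (by omega)).2 ⟨hpow, ⟨w, hy⟩⟩
    rw [LinearMap.range_eq_map, ← Submodule.map_smul''] at hmem
    obtain ⟨w', hw', hwe⟩ := hmem
    have hw'' : w' ∈ I.ideal U.1 ^ m • (⊤ : Submodule Γ(X, U.1.1) Γ(F.X (p - 1), U.1.1)) :=
      Submodule.smul_mono_left (Ideal.pow_le_pow_right (by omega)) hw'
    obtain ⟨v, hv⟩ := (range_idealMulι_pow I m (F.X (p - 1)) U.1.2 w').2 hw''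
    let e : Γ(G.cycles p, U.1.1) := (toDelCycles F p I m).app U.1.1 (i.app U.1.1 k)
    haveI := mono_cyclesMap_deligneι F p I m
    have hev : (G.toCycles (p - 1) p).app U.1.1 v = e := by
      apply Groth.QCohMod.app_injective_of_mono
        (HomologicalComplex.cyclesMap (Dual3.deligneι I m F) p ≫ F.iCycles p)
      have hL : G.toCycles (p - 1) p ≫ HomologicalComplex.cyclesMap (Dual3.deligneι I m F) p ≫
          F.iCycles p = (Dual3.deligneι I m F).f (p - 1) ≫ F.d (p - 1) p := by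
        rw [HomologicalComplex.cyclesMap_i, HomologicalComplex.toCycles_i_assoc,
          (Dual3.deligneι I m F).comm]
      have hR : i ≫ toDelCycles F p I m ≫ HomologicalComplex.cyclesMap (Dual3.deligneι I m F) p ≫
          F.iCycles p = Dual3.idealMulι (I ^ n) (F.cycles p) ≫ F.iCycles p := by
        rw [← Category.assoc (toDelCycles F p I m), toDelCycles_cyclesMap, ← Category.assoc, hi]
      have hL' := congr(($hL).app U.1.1 v)
      have hR' := congr(($hR).app U.1.1 k)
      refine hL'.trans (Eq.trans ?_ hR'.symm)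
      exact ((congrArg ((F.d (p - 1) p).app U.1.1) hv).trans hwe)
    change (G.homologyπ p).app U.1.1 e = 0
    rw [← hev]
    exact congr(($(G.toCycles_comp_homologyπ (p - 1) p)).app U.1.1 v)

omit [AlgebraicGeometry.IsNoetherian X] in
/-- `I^n Z ⟶ I^n H` is an epimorphism. -/
theorem epi_map (n : ℕ) :
    Epi ((Dual3.idealMul (I ^ n)).map (F.homologyπ p)) := by
  haveI := Groth.Dual3Deligne.isQCoh_cycles F p
  haveI := Groth.Dual3Deligne.isQCoh_homology F p
  refine Groth.QCohMod.epi_of_affine_surjective _ fun U hU y => ?_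
  have hy := (range_idealMulι_pow I n (F.homology p) hU _).1 ⟨y, rfl⟩
  have htop : (⊤ : Submodule Γ(X, U) Γ(F.homology p, U)) =
      (⊤ : Submodule Γ(X, U) Γ(F.cycles p, U)).map (appₗ (F.homologyπ p) U) := by
    rw [Submodule.map_top]
    exact ((LinearMap.range_eq_top (f := appₗ (F.homologyπ p) U)).2
      (Groth.Dual3Deligne.surjective_homologyπ_app F p hU)).symm
  rw [htop, ← Submodule.map_smul''] at hy
  obtain ⟨z, hz, hze⟩ := hy
  obtain ⟨x, hx⟩ := (range_idealMulι_pow I n (F.cycles p) hU z).2 hz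
  refine ⟨x, Groth.QCohMod.app_injective_of_mono (Dual3.idealMulι (I ^ n) (F.homology p)) _ ?_⟩
  have h1 := congr(($(Dual3.idealMul_map_ι (I ^ n) (F.homologyπ p))).app U x)
  refine h1.trans ?_
  exact (congrArg ((F.homologyπ p).app U) hx).trans hze

end Groth.Dual3Deligne
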